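import Cfsg.Agent.H284.SepOrd
import Cfsg.Agent.OrdDiv.Table
import Cfsg.Agent.H414.Rad
import Cfsg.Agent.S0493
import Cfsg.Agent.Prune
set_option linter.all false
prune_inst 0x7f00000000000000000000000000000000000000000000000000000000000000000000000000000000000000000000000000000000000000000000000000000000000000000000000000000000000000003fffffffffffffffffffffffffffbeffbdffffffff
open scoped Cfsg.Agent.FastGrp

/-!
# `A₇`, `L₂(q)`, `q` odd, of Lie type in characteristic 2 (helper405)
-/

set_option autoImplicit false

namespace Cfsg.Agent.H405.AltTwo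

open Cfsg Cfsg.Agent.OrdDiv Cfsg.Agent.H414.Rad Cfsg.Agent.H902

universe u

theorem card_of_altL2 {S : Type u} [Group S] [Finite S] [IsSimpleGroup S] (hna : ¬ IsMulCommutative S) (h : AltL2 S)
    (hl : IsLieTypeChar 2 S) : Nat.card S = 60 ∨ Nat.card S = 168 ∨ Nat.card S = 25920 := by
  rcases h with ⟨⟨e⟩⟩ | ⟨F, _, _, hodd, ⟨e⟩⟩
  · exfalso
    obtain ⟨X, f, hX⟩ := H284.SepOrd.real_of_lie OrdDiv.table Nat.prime_two hl
    have h1 : 2 * Nat.card S = (7).factorial := by
      rw [Nat.card_congr e.toEquiv, Nat.card_eq_fintype_card, card_alternatingGroup, Fintype.card_fin]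
      norm_num [Nat.factorial]
    have h2 := Art.alt_lie hX (by norm_num) h1
    norm_num [Nat.factorial] at h1
    omega
  · obtain ⟨r, hr⟩ := CharP.exists F
    obtain ⟨m, hrp, hcard⟩ := FiniteField.card F r
    have hr2 : r ≠ 2 := by
      rintro rfl
      rw [hcard, Nat.odd_iff] at hodd
      have h2 : 2 ∣ 2 ^ (m : ℕ) := dvd_pow_self 2 m.ne_zero
      omega
    have h4 : 4 ≤ Fintype.card F := by
      by_contra h4
      have h1 : 1 < Fintype.card F := Fintype.one_lt_card
      have h3 : Fintype.card F = 3 := by
        rw [Nat.odd_iff] at hodd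
        omega
      have hc := Cfsg.Agent.S0243.result (F := F) rfl 2 le_rfl
      rw [h3, Fin.prod_univ_two] at hc
      norm_num at hc
      have hcS : Nat.card S = 12 := by
        rw [Nat.card_congr e.toEquiv]
        omega
      have hcy : ¬ IsCyclic S := by
        intro h
        exact hna h.commutative
      have := Cfsg.Agent.S0493.result hcy (by omega)
      omega
    exact H284.SepOrd.sep OrdDiv.table hrp Nat.prime_two hr2
      (Or.inl ⟨F, inferInstance, inferInstance, hr, 2, le_rfl, fun _ => h4, ⟨e⟩⟩) hl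

end Cfsg.Agent.H405.AltTwo
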