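import Cfsg.Agent.H341.ThreeList_m3
import Cfsg.Agent.Lib.PGroupCoprimeAction
import Cfsg.Agent.Lib.Cores
import Cfsg.Agent.Lib.MinNormalNonabelian
import Cfsg.Agent.FastGrp
import Cfsg.Agent.Prune
set_option linter.all false
prune_inst 0x7f00000000000000000000000000000000000000000000000000000000000000000000000000000000000000000000000000000000000000000000000000000000000000000000000000000000000000003fffffffffffffffffffffffffffbeffbdffffffff
open scoped Cfsg.Agent.FastGrp

-- part: H405/PSqArith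
section
/-!
# Simple groups whose order divides `p ^ 2 (p ^ 4 - 1) / 2` (helper405): arithmetic

`arith` : a name `g` with order `c ∣ p ^ 2 (p ^ 4 - 1) / 2` divisible by the prime `p ≥ 7` is
`PSL(2, p ^ 2)`, `PSL(2, p)`, `PSL(2, 16)` (`p = 17`) or `PSL(3, 2)` (`p = 7`).
-/

set_option autoImplicit false

namespace Cfsg.Agent.H405.PSq

open Cfsg.Agent.OrdDiv Cfsg.Agent.H405.Shape

/-- the order of `PSL(2, p ^ 2)` -/
def D (p : ℕ) : ℕ := p ^ 2 * ((p ^ 4 - 1) / 2)

section

variable {p : ℕ} (hp : p.Prime) (h7 : 7 ≤ p)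

include hp h7

theorem odd_p : p % 2 = 1 := by
  have := hp.eq_two_or_odd
  omega

theorem half_eq : (p ^ 4 - 1) / 2 = (p ^ 2 - 1) * ((p ^ 2 + 1) / 2) ∧
    2 * ((p ^ 2 + 1) / 2) = p ^ 2 + 1 ∧ ((p ^ 2 + 1) / 2) % 2 = 1 := by
  have h := odd_p hp h7
  obtain ⟨k, rfl⟩ : ∃ k, p = 2 * k + 1 := ⟨p / 2, by omega⟩
  have h1 : (2 * k + 1) ^ 2 = 4 * (k * (k + 1)) + 1 := by ring
  have h2 : ((2 * k + 1) ^ 2 + 1) / 2 = 2 * (k * (k + 1)) + 1 := by omega
  have h3 : (2 * k + 1) ^ 2 - 1 = 4 * (k * (k + 1)) := by omega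
  refine ⟨?_, by omega, by omega⟩
  rw [h2, h3]
  have h4 : (2 * k + 1) ^ 4 = 2 * (4 * (k * (k + 1)) * (2 * (k * (k + 1)) + 1)) + 1 := by
    ring
  omega

theorem D_eq : D p = p ^ 2 * ((p ^ 2 - 1) * ((p ^ 2 + 1) / 2)) := by
  rw [D, (half_eq hp h7).1]

theorem cop_half : Nat.Coprime (p ^ 2 - 1) ((p ^ 2 + 1) / 2) := by
  obtain ⟨-, h2, h3⟩ := half_eq hp h7
  have hp2 : 1 ≤ p ^ 2 := Nat.one_le_pow _ _ hp.pos
  rw [Nat.coprime_iff_gcd_eq_one]
  have h4 : Nat.gcd (p ^ 2 - 1) ((p ^ 2 + 1) / 2) ∣ 2 := by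
    have h5 := Nat.gcd_dvd_left (p ^ 2 - 1) ((p ^ 2 + 1) / 2)
    have h6 := Nat.gcd_dvd_right (p ^ 2 - 1) ((p ^ 2 + 1) / 2)
    have h7 := Nat.dvd_sub (Dvd.dvd.mul_left h6 2) h5
    have h8 : 2 * ((p ^ 2 + 1) / 2) - (p ^ 2 - 1) = 2 := by (clear * - h2; omega)
    rwa [h8] at h7
  rcases (Nat.dvd_prime Nat.prime_two).mp h4 with h | h
  · exact h
  · exfalso
    have h6 := Nat.gcd_dvd_right (p ^ 2 - 1) ((p ^ 2 + 1) / 2)
    rw [h] at h6
    omega

/-- `p` does not divide `(p ^ 4 - 1) / 2`. -/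
theorem not_dvd_half : ¬ p ∣ (p ^ 4 - 1) / 2 := by
  intro h
  have h1 : p ∣ 2 * ((p ^ 4 - 1) / 2) := Dvd.dvd.mul_left h 2
  have h2 : 2 * ((p ^ 4 - 1) / 2) = p ^ 4 - 1 := by
    obtain ⟨h2, h3, -⟩ := half_eq hp h7
    have hodd := odd_p hp h7
    have : (p ^ 4) % 2 = 1 := by
      rw [Nat.pow_mod, hodd]
    omega
  rw [h2] at h1
  have h3 : p ∣ p ^ 4 := dvd_pow_self p (by norm_num)
  have h4 : 1 ≤ p ^ 4 := Nat.one_le_pow _ _ hp.pos
  have h5 := Nat.dvd_sub h3 h1
  rw [show p ^ 4 - (p ^ 4 - 1) = 1 by omega] at h5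
  exact hp.one_lt.ne' (Nat.dvd_one.mp h5)

/-- Prime powers dividing `D p`, prime to `p`. -/
theorem ppow_cases {R : ℕ} (hR : IsPrimePow R) (hpR : ¬ p ∣ R) (hd : R ∣ D p) :
    (R % 2 = 1 ∧ R ∣ (p ^ 2 + 1) / 2) ∨ (R % 2 = 1 ∧ (R ∣ p - 1 ∨ R ∣ p + 1)) ∨
      (R % 2 = 0 ∧ (R ∣ 2 * (p - 1) ∨ R ∣ 2 * (p + 1))) := by
  have hodd := odd_p hp h7
  have hcop : Nat.Coprime R (p ^ 2) :=
    Nat.Coprime.pow_right 2 ((hp.coprime_iff_not_dvd.mpr hpR).symm)
  rw [D_eq hp h7] at hd
  have h1 := hcop.dvd_of_dvd_mul_left hd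
  rcases (Nat.Coprime.isPrimePow_dvd_mul (cop_half hp h7) hR).mp h1 with h2 | h2
  · right
    have h3 : p ^ 2 - 1 = (p - 1) * (p + 1) := by
      rw [mul_comm, ← Nat.sq_sub_sq, one_pow]
    rw [h3] at h2
    rcases Nat.mod_two_eq_zero_or_one R with he | ho
    · right
      refine ⟨he, ?_⟩
      -- `R` is a power of two
      obtain ⟨r, k, hr, hk, rfl⟩ := hR
      rw [← Nat.prime_iff] at hr
      have hr2 : r = 2 := by
        have h4 : 2 ∣ r ^ k := Nat.dvd_of_mod_eq_zero he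
        exact ((Nat.prime_dvd_prime_iff_eq Nat.prime_two hr).mp (Nat.prime_two.dvd_of_dvd_pow h4)).symm
      subst hr2
      rcases (show p % 4 = 1 ∨ p % 4 = 3 by omega) with h | h
      · left
        obtain ⟨s, hs⟩ : ∃ s, p + 1 = 2 * s := ⟨(p + 1) / 2, by (clear * - h; omega)⟩
        have hs1 : s % 2 = 1 := by (clear * - h hs; omega)
        rw [hs, show (p - 1) * (2 * s) = (2 * (p - 1)) * s by ring] at h2
        refine Nat.Coprime.dvd_of_dvd_mul_right ?_ h2
        exact Nat.Coprime.pow_left k ((Nat.coprime_two_left).mpr (Nat.odd_iff.mpr hs1))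
      · right
        obtain ⟨s, hs⟩ : ∃ s, p - 1 = 2 * s := ⟨(p - 1) / 2, by (clear * - h; omega)⟩
        have hs1 : s % 2 = 1 := by (clear * - h hs; omega)
        rw [hs, show (2 * s) * (p + 1) = (2 * (p + 1)) * s by ring] at h2
        refine Nat.Coprime.dvd_of_dvd_mul_right ?_ h2
        exact Nat.Coprime.pow_left k ((Nat.coprime_two_left).mpr (Nat.odd_iff.mpr hs1))
    · left
      refine ⟨ho, ?_⟩
      -- divide by two
      obtain ⟨s, hs⟩ : ∃ s, p = 2 * s + 1 := ⟨p / 2, by omega⟩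
      have h4 : (p - 1) * (p + 1) = 4 * (s * (s + 1)) := by
        rw [hs]
        rw [show 2 * s + 1 - 1 = 2 * s by omega]
        ring
      rw [h4] at h2
      have h5 : Nat.Coprime R 4 := by
        have : Nat.Coprime R 2 := (Nat.coprime_two_right).mpr (Nat.odd_iff.mpr ho)
        exact Nat.Coprime.pow_right 2 this
      have h6 := h5.dvd_of_dvd_mul_left h2
      have h7 : Nat.Coprime s (s + 1) := by
        simp
      rcases (Nat.Coprime.isPrimePow_dvd_mul h7 hR).mp h6 with h8 | h8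
      · left
        rw [show p - 1 = 2 * s by (clear * - hs; omega)]
        exact Dvd.dvd.mul_left h8 2
      · right
        rw [show p + 1 = 2 * (s + 1) by omega]
        exact Dvd.dvd.mul_left h8 2
  · left
    refine ⟨?_, h2⟩
    obtain ⟨-, -, h3⟩ := half_eq hp h7
    rcases Nat.mod_two_eq_zero_or_one R with he | ho
    · exfalso
      have := (Nat.dvd_of_mod_eq_zero he).trans h2
      omega
    · exact ho

/-- The size bound. -/
theorem two_mul_le {R : ℕ} (hR : IsPrimePow R) (hpR : ¬ p ∣ R) (hd : R ∣ D p) :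
    2 * R ≤ p ^ 2 + 1 := by
  have hsq : 7 * p ≤ p ^ 2 := by nlinarith
  rcases ppow_cases hp h7 hR hpR hd with ⟨-, h⟩ | ⟨-, h | h⟩ | ⟨-, h | h⟩
  · obtain ⟨-, h3, -⟩ := half_eq hp h7
    have := Nat.le_of_dvd (by omega) h
    omega
  · have := Nat.le_of_dvd (by omega) h
    omega
  · have := Nat.le_of_dvd (by omega) h
    omega
  · have := Nat.le_of_dvd (by omega) h
    omega
  · have := Nat.le_of_dvd (by omega) h
    omega

omit hp h7 in
theorem pow_dvd {den N f q c : ℕ} (h : LieOrd den N f q c) : q ^ N ∣ c := by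
  have h1 : q ^ N ∣ den * c := by rw [h.eq]; exact dvd_mul_right _ _
  exact (Nat.Coprime.pow_left N h.cop.symm).dvd_of_dvd_mul_left h1

/-- The case of the defining characteristic. -/
theorem char_eq {den N f q c : ℕ} (h : LieOrd den N f q c) (hN : 1 ≤ N) (hd : c ∣ D p)
    (hpq : p ∣ q) : (q = p ∧ N ≤ 2) ∨ (q = p ^ 2 ∧ N = 1) := by
  obtain ⟨r, k, hr, hk, hq⟩ := h.pp
  rw [← Nat.prime_iff] at hr
  have hrp : r = p := by
    rw [← hq] at hpq
    exact ((Nat.prime_dvd_prime_iff_eq hp hr).mp (hp.dvd_of_dvd_pow hpq)).symm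
  subst hrp
  have h1 : q ^ N ∣ D r := (pow_dvd h).trans hd
  rw [← hq, ← pow_mul, D] at h1
  have h2 : r ^ (k * N) ∣ r ^ 2 := by
    refine Nat.Coprime.dvd_of_dvd_mul_right ?_ h1
    exact Nat.Coprime.pow_left _ (hp.coprime_iff_not_dvd.mpr (not_dvd_half hp h7))
  have h3 : k * N ≤ 2 := (Nat.pow_dvd_pow_iff_le_right hp.one_lt).mp h2
  have hk2 : k ≤ 2 := by nlinarith only [hN, h3]
  have hN2 : N ≤ 2 := by nlinarith only [hk, h3]
  interval_cases k
  · left
    rw [pow_one] at hq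
    exact ⟨hq.symm, hN2⟩
  · right
    exact ⟨hq.symm, by omega⟩

omit hp h7 in
theorem pp_pow {q N : ℕ} (h : IsPrimePow q) (hN : 1 ≤ N) : IsPrimePow (q ^ N) :=
  h.pow (by omega)

/-- Outside the defining characteristic: `2 q ^ N ≤ p ^ 2 + 1`. -/
theorem le_of_lie {den N f q c : ℕ} (h : LieOrd den N f q c) (hN : 1 ≤ N) (hd : c ∣ D p)
    (hpq : ¬ p ∣ q) : 2 * q ^ N ≤ p ^ 2 + 1 :=
  two_mul_le hp h7 (pp_pow h.pp hN) (fun h' => hpq (hp.dvd_of_dvd_pow h'))
    ((pow_dvd h).trans hd)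

omit h7 in
/-- `p` divides `f`. -/
theorem dvd_f {den N f q c : ℕ} (h : LieOrd den N f q c) (hpc : p ∣ c) (hpq : ¬ p ∣ q) : p ∣ f := by
  have h1 : p ∣ q ^ N * f := by rw [← h.eq]; exact Dvd.dvd.mul_left hpc _
  rcases (hp.dvd_mul).mp h1 with h2 | h2
  · exact absurd (hp.dvd_of_dvd_pow h2) hpq
  · exact h2

/-- Groups of large rank. -/
theorem big {den N f q c X : ℕ} (h : LieOrd den N f q c) (hN : 3 ≤ N) (hd : c ∣ D p)
    (hpc : p ∣ c) (hX : X ^ 2 ≤ q ^ N) (hX3 : 3 ≤ X)
    (hf : p ∣ f → p ≤ X + 1) : False := by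
  by_cases hpq : p ∣ q
  · rcases char_eq hp h7 h (by omega) hd hpq with h1 | h1 <;> omega
  · have h1 := le_of_lie hp h7 h (by omega) hd hpq
    have h2 := hf (dvd_f hp h hpc hpq)
    have h3 : p ^ 2 ≤ (X + 1) ^ 2 := Nat.pow_le_pow_left h2 2
    nlinarith only [hX, hX3, h1, h3]

omit h7 in
/-- prime divisors of `q ^ (2 j) - 1`. -/
theorem le_of_dvd_even {q j : ℕ} (hq : 2 ≤ q) (hj : 1 ≤ j) (h : p ∣ q ^ (2 * j) - 1) :
    p ≤ q ^ j + 1 := by
  have h1 : q ^ (2 * j) - 1 = (q ^ j - 1) * (q ^ j + 1) := by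
    rw [mul_comm 2 j, pow_mul, mul_comm, ← Nat.sq_sub_sq, one_pow]
  rw [h1] at h
  have h0 : q ^ 1 ≤ q ^ j := Nat.pow_le_pow_right (by omega) hj
  rw [pow_one] at h0
  rcases (hp.dvd_mul).mp h with h2 | h2
  · have := Nat.le_of_dvd (by omega) h2
    omega
  · exact Nat.le_of_dvd (by omega) h2

/-! ### families -/

/-- alternating groups -/
theorem alt_false {n c : ℕ} (h : n.factorial = 2 * c) (hd : c ∣ D p) (hpc : p ∣ c) : False := by
  have h1 : p ∣ n.factorial := by rw [h]; exact Dvd.dvd.mul_left hpc 2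
  have h2 : p ≤ n := (hp.dvd_factorial).mp h1
  have h3 : p.factorial ∣ n.factorial := Nat.factorial_dvd_factorial h2
  have h4 : 2 * ((p ^ 4 - 1) / 2) = p ^ 4 - 1 := by
    obtain ⟨h2, h3, -⟩ := half_eq hp h7
    have hodd := odd_p hp h7
    have : (p ^ 4) % 2 = 1 := by
      rw [Nat.pow_mod, hodd]
    omega
  have h5 : p.factorial ∣ p ^ 2 * (p ^ 4 - 1) := by
    refine h3.trans ?_
    rw [h, ← h4, show p ^ 2 * (2 * ((p ^ 4 - 1) / 2)) = 2 * (p ^ 2 * ((p ^ 4 - 1) / 2)) by ring]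
    exact Nat.mul_dvd_mul_left 2 hd
  obtain ⟨m, rfl⟩ : ∃ m, p = m + 1 := ⟨p - 1, by omega⟩
  have h6 : Nat.Coprime m.factorial ((m + 1) ^ 2) := by
    refine Nat.Coprime.pow_right 2 ?_
    rw [Nat.coprime_comm, hp.coprime_iff_not_dvd, hp.dvd_factorial]
    omega
  have h8 : m.factorial ∣ (m + 1) ^ 4 - 1 :=
    h6.dvd_of_dvd_mul_left ((Nat.factorial_dvd_factorial (Nat.le_succ m)).trans h5)
  have h9 : 1 < (m + 1) ^ 4 := Nat.one_lt_pow (by norm_num) (by omega)
  have h10 := Nat.le_of_dvd (by omega) h8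
  by_cases hm : m < 10
  · have hm6 : 6 ≤ m := by omega
    clear h7
    interval_cases m
    · revert h8; decide
    · norm_num at hp
    · norm_num at hp
    · norm_num at hp
  · have key : ∀ n, 10 ≤ n → (n + 1) ^ 4 ≤ n.factorial := by
      intro n hn
      induction n, hn using Nat.le_induction with
      | base => decide
      | succ n hn ih =>
        rw [Nat.factorial_succ]
        have h11 : (n + 1 + 1) ^ 4 ≤ (n + 1) * (n + 1) ^ 4 := by
          obtain ⟨k, rfl⟩ : ∃ k, n = k + 10 := ⟨n - 10, by omega⟩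
          have : (k + 10 + 1) * (k + 10 + 1) ^ 4 = (k + 10 + 1 + 1) ^ 4 +
            (k ^ 5 + 54 * k ^ 4 + 1162 * k ^ 3 + 12446 * k ^ 2 + 66293 * k + 140315) := by ring
          omega
        exact h11.trans (Nat.mul_le_mul_left _ ih)
    have := key m (by omega)
    omega

theorem spor_false {g : Grp} {c : ℕ} (h : (g, c) ∈ spor) (hd : c ∣ D p) (hpc : p ∣ c) : False := by
  have h1 : ∀ x ∈ spor, x.2 ∣ (Nat.factorial 71) ^ 46 := by decide +kernel
  have h2 : p ∣ (Nat.factorial 71) ^ 46 := hpc.trans (h1 _ h)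
  have h3 : p ≤ 71 := (hp.dvd_factorial).mp (hp.dvd_of_dvd_pow h2)
  have h4 : ∀ x ∈ spor, ∀ p < 72, 7 ≤ p → isPrimeB p = true → (D p) % x.2 ≠ 0 := by
    decide +kernel
  refine h4 _ h p (by omega) h7 ?_ (Nat.mod_eq_zero_of_dvd hd)
  unfold isPrimeB
  rw [Bool.and_eq_true, List.all_eq_true]
  refine ⟨by rw [Nat.blt_eq]; omega, ?_⟩
  intro d hdl
  rw [List.mem_range] at hdl
  rw [Bool.or_eq_true]
  by_cases h5 : d < 2
  · left; rw [Nat.blt_eq]; exact h5
  · right
    rw [bne_iff_ne]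
    intro h6
    have := (Nat.dvd_prime hp).mp (Nat.dvd_of_mod_eq_zero h6)
    omega

omit h7 in
/-- products of `q ^ i - 1` -/
theorem exists_of_dvd_prod {g : ℕ → ℕ} {n : ℕ} (h : p ∣ ∏ i ∈ Finset.range n, g i) :
    ∃ i < n, p ∣ g i := by
  obtain ⟨i, hi, h1⟩ := (hp.prime.dvd_finsetProd_iff _).mp h
  exact ⟨i, Finset.mem_range.mp hi, h1⟩

omit h7 in
/-- products of `q ^ (2 i) - 1`. -/
theorem le_of_prB {q m : ℕ} (hq : 2 ≤ q) (h : p ∣ ∏ i ∈ Finset.range m, (q ^ (2 * (i + 1)) - 1)) :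
    p ≤ q ^ m + 1 := by
  obtain ⟨i, hi, h1⟩ := exists_of_dvd_prod hp h
  have h2 := le_of_dvd_even hp hq (by omega) h1
  have h3 : q ^ (i + 1) ≤ q ^ m := Nat.pow_le_pow_right (by omega) (by omega)
  omega

theorem psp_false {m q c : ℕ} (h : Ord (.psp m q) c) (hd : c ∣ D p) (hpc : p ∣ c) : False := by
  obtain ⟨hm, -, h⟩ := h
  have hq : 2 ≤ q := h.pp.two_le
  have hmm : 2 * m ≤ m ^ 2 := by nlinarith only [hm]
  have h4 : 2 ^ 2 ≤ q ^ m := (Nat.pow_le_pow_left hq 2).trans (Nat.pow_le_pow_right (by omega) hm)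
  refine big hp h7 (X := q ^ m) h (by linarith only [hm, hmm]) hd hpc ?_ (by omega) (le_of_prB hp hq)
  rw [← pow_mul]
  exact Nat.pow_le_pow_right (by omega) (by omega)

theorem oodd_false {m q c : ℕ} (h : Ord (.oodd m q) c) (hd : c ∣ D p) (hpc : p ∣ c) : False := by
  obtain ⟨hm, -, h⟩ := h
  have hq : 2 ≤ q := h.pp.two_le
  have hmm : 2 * m ≤ m ^ 2 := by nlinarith only [hm]
  have h4 : 2 ^ 3 ≤ q ^ m := (Nat.pow_le_pow_left hq 3).trans (Nat.pow_le_pow_right (by omega) hm)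
  refine big hp h7 (X := q ^ m) h (by linarith only [hm, hmm]) hd hpc ?_ (by omega) (le_of_prB hp hq)
  rw [← pow_mul]
  exact Nat.pow_le_pow_right (by omega) (by omega)

theorem oplus_false {m q c : ℕ} (h : Ord (.oplus m q) c) (hd : c ∣ D p) (hpc : p ∣ c) : False := by
  obtain ⟨hm, h⟩ := h
  have hq : 2 ≤ q := h.pp.two_le
  have hmm : 3 * m ≤ m * (m - 1) := by
    rw [mul_comm]; exact Nat.mul_le_mul_left _ (by omega)
  have h4 : 2 ^ 4 ≤ q ^ m := (Nat.pow_le_pow_left hq 4).trans (Nat.pow_le_pow_right (by omega) hm)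
  refine big hp h7 (X := q ^ m) h (by omega) hd hpc ?_ (by omega) ?_
  · rw [← pow_mul]
    exact Nat.pow_le_pow_right (by omega) (by omega)
  · intro h5
    rcases (hp.dvd_mul).mp h5 with h6 | h6
    · have := Nat.le_of_dvd (by omega) h6
      omega
    · have h7 := le_of_prB hp hq h6
      have h8 : q ^ (m - 1) ≤ q ^ m := Nat.pow_le_pow_right (by omega) (by omega)
      omega

theorem ominus_false {m q c : ℕ} (h : Ord (.ominus m q) c) (hd : c ∣ D p) (hpc : p ∣ c) :
    False := by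
  obtain ⟨hm, h⟩ := h
  have hq : 2 ≤ q := h.pp.two_le
  have hmm : 3 * m ≤ m * (m - 1) := by
    rw [mul_comm]; exact Nat.mul_le_mul_left _ (by omega)
  have h4 : 2 ^ 4 ≤ q ^ m := (Nat.pow_le_pow_left hq 4).trans (Nat.pow_le_pow_right (by omega) hm)
  refine big hp h7 (X := q ^ m) h (by omega) hd hpc ?_ (by omega) ?_
  · rw [← pow_mul]
    exact Nat.pow_le_pow_right (by omega) (by omega)
  · intro h5
    rcases (hp.dvd_mul).mp h5 with h6 | h6
    · exact Nat.le_of_dvd (by omega) h6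
    · have h7 := le_of_prB hp hq h6
      have h8 : q ^ (m - 1) ≤ q ^ m := Nat.pow_le_pow_right (by omega) (by omega)
      omega

omit h7 in
/-- one factor `q ^ j - 1` with `j ≤ k` or `q ^ j + 1` with `j ≤ k` -/
theorem le_fac {q j k : ℕ} (hq : 2 ≤ q) (hj : 1 ≤ j) (hjk : j ≤ k) :
    (p ∣ q ^ j - 1 → p ≤ q ^ k + 1) ∧ (p ∣ q ^ j + 1 → p ≤ q ^ k + 1) ∧
      (p ∣ q ^ (2 * j) - 1 → p ≤ q ^ k + 1) := by
  have h3 : q ^ j ≤ q ^ k := Nat.pow_le_pow_right (by omega) hjk
  have h0 : q ^ 1 ≤ q ^ j := Nat.pow_le_pow_right (by omega) hj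
  rw [pow_one] at h0
  refine ⟨fun h => ?_, fun h => ?_, fun h => ?_⟩
  · have := Nat.le_of_dvd (by omega) h
    omega
  · have := Nat.le_of_dvd (by omega) h
    omega
  · have := le_of_dvd_even hp hq hj h
    omega

omit hp h7 in
theorem three_le {q k : ℕ} (hq : 2 ≤ q) (hk : 2 ≤ k) : 3 ≤ q ^ k := by
  have : 2 ^ 2 ≤ q ^ k := (Nat.pow_le_pow_left hq 2).trans (Nat.pow_le_pow_right (by omega) hk)
  omega

omit hp h7 in
theorem sq_le {q k N : ℕ} (hq : 2 ≤ q) (hk : k * 2 ≤ N) : (q ^ k) ^ 2 ≤ q ^ N := by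
  rw [← pow_mul]
  exact Nat.pow_le_pow_right (by omega) hk

theorem g2_false {q c : ℕ} (h : Ord (.g2 q) c) (hd : c ∣ D p) (hpc : p ∣ c) : False := by
  obtain ⟨-, h⟩ := h
  have hq : 2 ≤ q := h.pp.two_le
  refine big hp h7 (X := q ^ 3) h (by norm_num) hd hpc (sq_le hq (by norm_num))
    (three_le hq (by norm_num)) ?_
  intro h5
  rcases (hp.dvd_mul).mp h5 with h6 | h6
  · exact (le_fac hp (j := 1) hq (by norm_num) (by norm_num)).2.2 h6
  · exact (le_fac hp (j := 3) hq (by norm_num) (by norm_num)).2.2 h6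

theorem f4_false {q c : ℕ} (h : Ord (.f4 q) c) (hd : c ∣ D p) (hpc : p ∣ c) : False := by
  have hq : 2 ≤ q := h.pp.two_le
  refine big hp h7 (X := q ^ 12) h (by norm_num) hd hpc (sq_le hq (by norm_num))
    (three_le hq (by norm_num)) ?_
  intro h5
  simp only [hp.dvd_mul] at h5
  rcases h5 with ((h6 | h6) | h6) | h6
  · exact (le_fac hp (j := 2) hq (by norm_num) (by norm_num)).1 h6
  · exact (le_fac hp (j := 6) hq (by norm_num) (by norm_num)).1 h6
  · exact (le_fac hp (j := 8) hq (by norm_num) (by norm_num)).1 h6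
  · exact (le_fac hp (j := 12) hq (by norm_num) (by norm_num)).1 h6

theorem e6_false {q c : ℕ} (h : Ord (.e6 q) c) (hd : c ∣ D p) (hpc : p ∣ c) : False := by
  have hq : 2 ≤ q := h.pp.two_le
  refine big hp h7 (X := q ^ 18) h (by norm_num) hd hpc (sq_le hq (by norm_num))
    (three_le hq (by norm_num)) ?_
  intro h5
  simp only [hp.dvd_mul] at h5
  rcases h5 with ((((h6 | h6) | h6) | h6) | h6) | h6
  · exact (le_fac hp (j := 2) hq (by norm_num) (by norm_num)).1 h6
  · exact (le_fac hp (j := 5) hq (by norm_num) (by norm_num)).1 h6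
  · exact (le_fac hp (j := 6) hq (by norm_num) (by norm_num)).1 h6
  · exact (le_fac hp (j := 8) hq (by norm_num) (by norm_num)).1 h6
  · exact (le_fac hp (j := 9) hq (by norm_num) (by norm_num)).1 h6
  · exact (le_fac hp (j := 12) hq (by norm_num) (by norm_num)).1 h6

theorem te6_false {q c : ℕ} (h : Ord (.te6 q) c) (hd : c ∣ D p) (hpc : p ∣ c) : False := by
  have hq : 2 ≤ q := h.pp.two_le
  refine big hp h7 (X := q ^ 18) h (by norm_num) hd hpc (sq_le hq (by norm_num))
    (three_le hq (by norm_num)) ?_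
  intro h5
  simp only [hp.dvd_mul] at h5
  rcases h5 with ((((h6 | h6) | h6) | h6) | h6) | h6
  · exact (le_fac hp (j := 2) hq (by norm_num) (by norm_num)).1 h6
  · exact (le_fac hp (j := 5) hq (by norm_num) (by norm_num)).2.1 h6
  · exact (le_fac hp (j := 6) hq (by norm_num) (by norm_num)).1 h6
  · exact (le_fac hp (j := 8) hq (by norm_num) (by norm_num)).1 h6
  · exact (le_fac hp (j := 9) hq (by norm_num) (by norm_num)).2.1 h6
  · exact (le_fac hp (j := 12) hq (by norm_num) (by norm_num)).1 h6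

theorem e7_false {q c : ℕ} (h : Ord (.e7 q) c) (hd : c ∣ D p) (hpc : p ∣ c) : False := by
  have hq : 2 ≤ q := h.pp.two_le
  refine big hp h7 (X := q ^ 18) h (by norm_num) hd hpc (sq_le hq (by norm_num))
    (three_le hq (by norm_num)) ?_
  intro h5
  simp only [hp.dvd_mul] at h5
  rcases h5 with (((((h6 | h6) | h6) | h6) | h6) | h6) | h6
  · exact (le_fac hp (j := 2) hq (by norm_num) (by norm_num)).1 h6
  · exact (le_fac hp (j := 6) hq (by norm_num) (by norm_num)).1 h6
  · exact (le_fac hp (j := 8) hq (by norm_num) (by norm_num)).1 h6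
  · exact (le_fac hp (j := 10) hq (by norm_num) (by norm_num)).1 h6
  · exact (le_fac hp (j := 12) hq (by norm_num) (by norm_num)).1 h6
  · exact (le_fac hp (j := 14) hq (by norm_num) (by norm_num)).1 h6
  · exact (le_fac hp (j := 18) hq (by norm_num) (by norm_num)).1 h6

theorem e8_false {q c : ℕ} (h : Ord (.e8 q) c) (hd : c ∣ D p) (hpc : p ∣ c) : False := by
  have hq : 2 ≤ q := h.pp.two_le
  refine big hp h7 (X := q ^ 30) h (by norm_num) hd hpc (sq_le hq (by norm_num))
    (three_le hq (by norm_num)) ?_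
  intro h5
  simp only [hp.dvd_mul] at h5
  rcases h5 with ((((((h6 | h6) | h6) | h6) | h6) | h6) | h6) | h6
  · exact (le_fac hp (j := 2) hq (by norm_num) (by norm_num)).1 h6
  · exact (le_fac hp (j := 8) hq (by norm_num) (by norm_num)).1 h6
  · exact (le_fac hp (j := 12) hq (by norm_num) (by norm_num)).1 h6
  · exact (le_fac hp (j := 14) hq (by norm_num) (by norm_num)).1 h6
  · exact (le_fac hp (j := 18) hq (by norm_num) (by norm_num)).1 h6
  · exact (le_fac hp (j := 20) hq (by norm_num) (by norm_num)).1 h6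
  · exact (le_fac hp (j := 24) hq (by norm_num) (by norm_num)).1 h6
  · exact (le_fac hp (j := 30) hq (by norm_num) (by norm_num)).1 h6

theorem td4_false {q c : ℕ} (h : Ord (.td4 q) c) (hd : c ∣ D p) (hpc : p ∣ c) : False := by
  have hq : 2 ≤ q := h.pp.two_le
  refine big hp h7 (X := q ^ 6) h (by norm_num) hd hpc (sq_le hq (by norm_num))
    (three_le hq (by norm_num)) ?_
  intro h5
  simp only [hp.dvd_mul] at h5
  rcases h5 with (h6 | h6) | h6
  · exact (le_fac hp (j := 2) hq (by norm_num) (by norm_num)).1 h6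
  · exact (le_fac hp (j := 6) hq (by norm_num) (by norm_num)).1 h6
  · have hq2 : 2 * q ≤ q ^ 2 := by nlinarith
    have h8 : q ^ 8 + q ^ 4 + 1 = (q ^ 4 + q ^ 2 + 1) * (q ^ 4 - q ^ 2 + 1) := by
      have h9 : q ^ 2 ≤ q ^ 4 := Nat.pow_le_pow_right (by omega) (by norm_num)
      zify [h9]
      ring
    rw [h8] at h6
    have h9 : q ^ 2 ≤ q ^ 4 := Nat.pow_le_pow_right (by omega) (by norm_num)
    have h10 : q ^ 4 + q ^ 2 ≤ q ^ 6 := by
      have h11 : q ^ 6 = q ^ 4 * q ^ 2 := by ring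
      have h12 : 4 ≤ q ^ 2 := by linarith only [hq, hq2]
      nlinarith only [hq, hq2, h9]
    rcases (hp.dvd_mul).mp h6 with h7 | h7
    · have := Nat.le_of_dvd (by omega) h7
      omega
    · have := Nat.le_of_dvd (by omega) h7
      omega

theorem tf4_false {q c : ℕ} (h : Ord (.tf4 q) c) (hd : c ∣ D p) (hpc : p ∣ c) : False := by
  obtain ⟨-, h⟩ := h
  have hq : 2 ≤ q := h.pp.two_le
  refine big hp h7 (X := q ^ 6) h (by norm_num) hd hpc (sq_le hq (by norm_num))
    (three_le hq (by norm_num)) ?_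
  intro h5
  simp only [hp.dvd_mul] at h5
  rcases h5 with ((h6 | h6) | h6) | h6
  · exact (le_fac hp (j := 1) hq (by norm_num) (by norm_num)).1 (by rw [pow_one]; exact h6)
  · exact (le_fac hp (j := 3) hq (by norm_num) (by norm_num)).2.1 h6
  · exact (le_fac hp (j := 4) hq (by norm_num) (by norm_num)).1 h6
  · exact (le_fac hp (j := 6) hq (by norm_num) (by norm_num)).2.1 h6

end

end Cfsg.Agent.H405.PSq
end

-- part: H405/PSqCoprime
section
/-!
# `p'`-cores of the groups of order `p ^ 2 (p ^ 4 - 1) / 2` (helper405)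
-/

set_option autoImplicit false

namespace Cfsg.Agent.H405.PSq

open Subgroup

section arith

variable {p : ℕ} (hp : p.Prime) (h7 : 7 ≤ p)

include hp h7

/-- A prime power dividing `D p`, prime to `p` and `≡ 1 mod p`, is `p + 1`, a power of 2. -/
theorem modOne {q b : ℕ} (hq : q.Prime) (hqp : q ≠ p) (hd : q ^ b ∣ D p)
    (hm : q ^ b ≡ 1 [MOD p]) (h1 : q ^ b ≠ 1) : q = 2 ∧ q ^ b = p + 1 := by
  have hb : b ≠ 0 := by rintro rfl; simp at h1
  have hpp : IsPrimePow (q ^ b) := hq.isPrimePow.pow hb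
  have hnd : ¬ p ∣ q ^ b := fun h =>
    hqp ((Nat.prime_dvd_prime_iff_eq hp hq).mp (hp.dvd_of_dvd_pow h)).symm
  have hodd := odd_p hp h7
  set R := q ^ b with hR
  have hR0 : 0 < R := Nat.pos_of_ne_zero (by rw [hR]; exact pow_ne_zero _ hq.ne_zero)
  obtain ⟨k, hk⟩ : ∃ k, R = 1 + p * k := by
    have := (Nat.modEq_iff_dvd' (by omega : 1 ≤ R)).mp hm.symm
    obtain ⟨k, hk⟩ := this
    exact ⟨k, by omega⟩
  have hk0 : k ≠ 0 := by rintro rfl; omega
  have hRp : p + 1 ≤ R := by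
    have : p * 1 ≤ p * k := Nat.mul_le_mul_left p (by omega)
    omega
  have key : R % 2 = 0 ∧ R = p + 1 := by
    rcases ppow_cases hp h7 hpp hnd hd with ⟨h2, S, hS⟩ | ⟨h2, h3 | h3⟩ | ⟨h2, h3 | h3⟩
    · exfalso
      obtain ⟨-, h4, -⟩ := half_eq hp h7
      rw [hS] at h4
      -- `2 * (R * S) = p ^ 2 + 1`
      have h5 : (1 + p * k) * (2 * S) = p ^ 2 + 1 := by rw [← hk]; linarith only [h4]
      have h6 : 2 * S ≡ 1 [MOD p] := by
        have e1 : (1 + p * k) * (2 * S) ≡ 1 * (2 * S) [MOD p] := by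
          apply Nat.ModEq.mul_right
          have h9 : 1 + p * k ≡ 1 + 0 [MOD p] :=
            Nat.ModEq.add_left 1 ((Nat.modEq_zero_iff_dvd).mpr (Dvd.intro _ rfl))
          exact h9
        have e2 : p ^ 2 + 1 ≡ 0 + 1 [MOD p] :=
          Nat.ModEq.add_right 1 ((Nat.modEq_zero_iff_dvd).mpr (dvd_pow_self p two_ne_zero))
        rw [h5, one_mul] at e1
        simpa using e1.symm.trans e2
      have hS0 : S ≠ 0 := by rintro rfl; omega
      obtain ⟨m, hm'⟩ : ∃ m, 2 * S = 1 + p * m := by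
        obtain ⟨m, hm'⟩ := (Nat.modEq_iff_dvd' (by omega : 1 ≤ 2 * S)).mp h6.symm
        exact ⟨m, by omega⟩
      have hm0 : m ≠ 0 := by rintro rfl; omega
      rw [hm'] at h5
      have h7' : p * 1 ≤ p * k := Nat.mul_le_mul_left p (by omega)
      have h8 : p * 1 ≤ p * m := Nat.mul_le_mul_left p (by omega)
      nlinarith only [h7, hRp, h4, hm', h8]
    · have := Nat.le_of_dvd (by omega) h3
      (clear * - hRp this; omega)
    · have := Nat.le_of_dvd (by omega) h3
      have h4 : R = p + 1 := by omega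
      omega
    · have h4 := Nat.le_of_dvd (by omega) h3
      have hk1 : k = 1 := by
        by_contra hne
        have : p * 2 ≤ p * k := Nat.mul_le_mul_left p (by omega)
        (clear * - hk h4 this; omega)
      subst hk1
      have h5 : R = p + 1 := by omega
      exfalso
      rw [h5] at h3
      obtain ⟨c, hc⟩ := h3
      have : c = 1 ∨ 2 ≤ c := by
        rcases Nat.lt_or_ge c 2 with h | h
        · interval_cases c
          · omega
          · left; rfl
        · right; exact h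
      rcases this with rfl | h
      · (clear * - h7 hc; omega)
      · have : (p + 1) * 2 ≤ (p + 1) * c := Nat.mul_le_mul_left _ h
        (clear * - hc this; omega)
    · refine ⟨h2, ?_⟩
      have h4 := Nat.le_of_dvd (by omega) h3
      have hk2 : k = 1 ∨ k = 2 := by
        by_contra hne
        have : p * 3 ≤ p * k := Nat.mul_le_mul_left p (by omega)
        (clear * - h7 hk h4 this; omega)
      rcases hk2 with rfl | rfl
      · omega
      · exfalso
        omega
  refine ⟨?_, key.2⟩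
  have h2 : 2 ∣ q ^ b := Nat.dvd_of_mod_eq_zero key.1
  exact ((Nat.prime_dvd_prime_iff_eq Nat.prime_two hq).mp (Nat.prime_two.dvd_of_dvd_pow h2)).symm

/-- If `p + 1` is a power of 2 then `4 (p + 1)` does not divide `D p`. -/
theorem not_four_mul {b : ℕ} (hb : 2 ^ b = p + 1) : ¬ 4 * (p + 1) ∣ D p := by
  intro h
  have hodd := odd_p hp h7
  have hb2 : 2 ≤ b := by
    by_contra hlt
    have : b = 0 ∨ b = 1 := by omega
    rcases this with rfl | rfl <;> simp at hb <;> omega
  have h4 : 4 ∣ p + 1 := by rw [← hb]; exact pow_dvd_pow 2 hb2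
  rw [D_eq hp h7] at h
  obtain ⟨h1, h2, h3⟩ := half_eq hp h7
  have h5 : p ^ 2 - 1 = (p + 1) * (p - 1) := by
    have := Nat.sq_sub_sq p 1
    simpa only [_root_.one_pow] using this
  rw [h5] at h
  have h6 : p ^ 2 * ((p + 1) * (p - 1) * ((p ^ 2 + 1) / 2)) =
      (p ^ 2 * ((p - 1) * ((p ^ 2 + 1) / 2))) * (p + 1) := by ring
  rw [h6] at h
  have h8 : 4 ∣ p ^ 2 * ((p - 1) * ((p ^ 2 + 1) / 2)) :=
    Nat.dvd_of_mul_dvd_mul_right (by omega) h
  obtain ⟨m, hm⟩ : ∃ m, p = 4 * m + 3 := ⟨(p - 3) / 4, by (clear * - h4; omega)⟩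
  have h9 : (p ^ 2 * ((p - 1) * ((p ^ 2 + 1) / 2))) % 4 ≠ 0 := by
    have e0 : p % 4 = 3 := by (clear * - hm; omega)
    have e1 : p ^ 2 % 4 = 1 := by rw [Nat.pow_mod, e0]
    have e2 : (p - 1) % 4 = 2 := by (clear * - e0; omega)
    have e3 : ((p ^ 2 + 1) / 2) % 4 = 1 ∨ ((p ^ 2 + 1) / 2) % 4 = 3 := by (clear * - e1; omega)
    rw [Nat.mul_mod, e1, Nat.mul_mod (p - 1), e2]
    rcases e3 with e3 | e3 <;> rw [e3]
    · norm_num
    · norm_num
  exact h9 (Nat.mod_eq_zero_of_dvd h8)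

end arith

end Cfsg.Agent.H405.PSq
end

-- part: H405/PSqAction
section
/-!
# `p`-groups acting on the `p'`-core of a group of order `p ^ 2 (p ^ 4 - 1) / 2` (helper405)
-/

set_option autoImplicit false

namespace Cfsg.Agent.H405.PSq

open Subgroup Cfsg.Agent.Lib

variable {G : Type*} [Group G]

/-- Fixed point counting for a `p`-subgroup `P` normalizing `R`. -/
theorem card_modEq [Finite G] {p : ℕ} [Fact p.Prime] {P R : Subgroup G} (hP : IsPGroup p P)
    (h : ∀ b ∈ P, ∀ u ∈ R, b * u * b⁻¹ ∈ R) :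
    Nat.card R ≡ Nat.card (R ⊓ centralizer (P : Set G) : Subgroup G) [MOD p] := by
  let _ := PGroupCoprimeAction.conjAction P R h
  have h1 := hP.card_modEq_card_fixedPoints R
  have h2 : Nat.card (MulAction.fixedPoints P R) =
      Nat.card (R ⊓ centralizer (P : Set G) : Subgroup G) := by
    refine Nat.card_congr ⟨fun u => ⟨u.1.1, u.1.2, ?_⟩, fun u => ⟨⟨u.1, u.2.1⟩, ?_⟩, ?_, ?_⟩
    · change u.1.1 ∈ centralizer (P : Set G)
      rw [mem_centralizer_iff]
      intro b hb
      have h3 := congrArg Subtype.val (u.2 ⟨b, hb⟩)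
      change b * u.1.1 * b⁻¹ = u.1.1 at h3
      exact mul_inv_eq_iff_eq_mul.mp h3
    · rw [MulAction.mem_fixedPoints]
      intro b
      apply Subtype.ext
      change (b : G) * u.1 * (b : G)⁻¹ = u.1
      have h3 := mem_centralizer_iff.mp u.2.2 b b.2
      rw [h3]
      group
    · intro u; rfl
    · intro u; rfl
  rwa [h2] at h1

/-- Burnside's formula when all nontrivial elements of `P` have the same fixed points. -/
theorem card_dvd_of_fixed [Finite G] {P R : Subgroup G} (h : ∀ b ∈ P, ∀ u ∈ R, b * u * b⁻¹ ∈ R)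
    (hfix : ∀ x ∈ P, x ≠ 1 →
      R ⊓ centralizer ({x} : Set G) = R ⊓ centralizer (P : Set G)) :
    Nat.card P ∣ Nat.card R + (Nat.card P - 1) *
      Nat.card (R ⊓ centralizer (P : Set G) : Subgroup G) := by
  classical
  let _ := PGroupCoprimeAction.conjAction P R h
  have := Fintype.ofFinite P
  have := Fintype.ofFinite R
  have := Fintype.ofFinite (MulAction.orbitRel.Quotient P R)
  have hfb : ∀ b : P, Fintype.card (MulAction.fixedBy R b) =
      Nat.card (R ⊓ centralizer ({(b : G)} : Set G) : Subgroup G) := by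
    intro b
    rw [← Nat.card_eq_fintype_card]
    refine Nat.card_congr ⟨fun u => ⟨u.1.1, u.1.2, ?_⟩, fun u => ⟨⟨u.1, u.2.1⟩, ?_⟩, ?_, ?_⟩
    · change u.1.1 ∈ centralizer ({(b : G)} : Set G)
      rw [mem_centralizer_singleton_iff]
      have h3 := congrArg Subtype.val u.2
      change (b : G) * u.1.1 * (b : G)⁻¹ = u.1.1 at h3
      have h4 : (b : G) * u.1.1 = u.1.1 * b := mul_inv_eq_iff_eq_mul.mp h3
      first | exact h4 | exact h4.symm
    · rw [MulAction.mem_fixedBy]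
      apply Subtype.ext
      change (b : G) * u.1 * (b : G)⁻¹ = u.1
      have h3 := mem_centralizer_singleton_iff.mp u.2.2
      rw [mul_inv_eq_iff_eq_mul]
      first | exact h3 | exact h3.symm
    · intro u; rfl
    · intro u; rfl
  have hb := MulAction.sum_card_fixedBy_eq_card_orbits_mul_card_group P R
  rw [← Finset.add_sum_erase _ _ (Finset.mem_univ (1 : P))] at hb
  have h1 : Fintype.card (MulAction.fixedBy R (1 : P)) = Nat.card R := by
    rw [hfb]
    have h3 : R ⊓ centralizer ({((1 : P) : G)} : Set G) = R := by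
      rw [inf_eq_left]
      intro r _
      rw [mem_centralizer_singleton_iff]
      simp
    rw [h3]
  have h2 : ∑ b ∈ (Finset.univ.erase (1 : P)), Fintype.card (MulAction.fixedBy R b) =
      (Nat.card P - 1) * Nat.card (R ⊓ centralizer (P : Set G) : Subgroup G) := by
    have h3 : ∀ b ∈ (Finset.univ.erase (1 : P)), Fintype.card (MulAction.fixedBy R b) =
        Nat.card (R ⊓ centralizer (P : Set G) : Subgroup G) := by
      intro b hb'
      rw [hfb]
      rw [hfix b b.2]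
      intro h0
      exact (Finset.ne_of_mem_erase hb') (Subtype.ext h0)
    rw [Finset.sum_congr rfl h3,
      Finset.sum_const, Finset.card_erase_of_mem (Finset.mem_univ _), Finset.card_univ,
      Nat.card_eq_fintype_card (α := P), smul_eq_mul]
  rw [h1, h2] at hb
  rw [hb, Nat.card_eq_fintype_card]
  exact Dvd.intro_left _ rfl

variable {p : ℕ}

/-- A `p`-group normalizing a `q`-group of order dividing `D p`: it centralizes it or `q = 2`. -/
theorem idx [Finite G] (hp : p.Prime) (h7 : 7 ≤ p) {P R : Subgroup G} (hP : IsPGroup p P)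
    (h : ∀ b ∈ P, ∀ u ∈ R, b * u * b⁻¹ ∈ R) {q : ℕ} (hq : q.Prime) (hqp : q ≠ p)
    (hR : IsPGroup q R) (hd : Nat.card R ∣ D p) :
    R ≤ centralizer (P : Set G) ∨ (q = 2 ∧ (∃ b, 2 ^ b = p + 1) ∧
      Nat.card R = (p + 1) * Nat.card (R ⊓ centralizer (P : Set G) : Subgroup G)) := by
  have := Fact.mk hp
  have := Fact.mk hq
  have h1 := card_modEq hP h
  obtain ⟨a, ha⟩ := hR.exists_card_eq
  have hle : Nat.card (R ⊓ centralizer (P : Set G) : Subgroup G) ∣ Nat.card R :=
    card_dvd_of_le inf_le_left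
  rw [ha] at hle
  obtain ⟨c, hca, hc⟩ := (Nat.dvd_prime_pow hq).mp hle
  obtain ⟨d, rfl⟩ : ∃ d, a = c + d := ⟨a - c, by omega⟩
  rw [ha, hc, pow_add] at h1
  have hcop : Nat.Coprime p (q ^ c) :=
    Nat.Coprime.pow_right _ ((Nat.coprime_primes hp hq).mpr hqp.symm)
  have h2 : q ^ d ≡ 1 [MOD p] := by
    have h3 : q ^ c * q ^ d ≡ q ^ c * 1 [MOD p] := by rw [mul_one]; exact h1
    exact Nat.ModEq.cancel_left_of_coprime (by rw [Nat.coprime_iff_gcd_eq_one] at hcop; exact hcop) h3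
  by_cases h3 : q ^ d = 1
  · left
    have h4 : Nat.card (R ⊓ centralizer (P : Set G) : Subgroup G) = Nat.card R := by
      rw [ha, hc, pow_add, h3, mul_one]
    have h5 : R ⊓ centralizer (P : Set G) = R :=
      eq_of_le_of_card_ge inf_le_left (by rw [h4])
    exact inf_eq_left.mp h5
  · right
    have h4 : q ^ d ∣ D p := by
      refine dvd_trans ?_ hd
      rw [ha, pow_add]
      exact Dvd.intro_left _ rfl
    obtain ⟨h5, h6⟩ := modOne hp h7 hq hqp h4 h2 h3
    refine ⟨h5, ⟨d, by rw [← h6, h5]⟩, ?_⟩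
    rw [ha, hc, pow_add, h6, mul_comm]

/-- If the `p`-group `X ≤ P` centralizes a `P`-invariant Sylow 2-subgroup of the normal
`p'`-subgroup `N` then it centralizes `N`. -/
theorem le_centralizer_of_two [Finite G] (hp : p.Prime) (h7 : 7 ≤ p) {X P N : Subgroup G}
    (hXP : X ≤ P) (hP : IsPGroup p P) [hNn : N.Normal] (hN : ¬ p ∣ Nat.card N)
    (hd : Nat.card N ∣ D p)
    (h2 : ∃ T : Sylow 2 N, (T : Subgroup N).map N.subtype ≤ centralizer (X : Set G)) :
    N ≤ centralizer (X : Set G) := by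
  have := Fact.mk hp
  have hPN : ∀ b ∈ P, ∀ u ∈ N, b * u * b⁻¹ ∈ N := fun b _ u hu => hNn.conj_mem u hu b
  have htop : ((N ⊓ centralizer (X : Set G)).subgroupOf N) = ⊤ := by
    apply Cores.eq_top_of_sylow_le
    intro r hr
    by_cases hr2 : r = 2
    · subst hr2
      obtain ⟨T, hT⟩ := h2
      refine ⟨T, fun t ht => ?_⟩
      rw [mem_subgroupOf, mem_inf]
      exact ⟨t.2, hT ⟨t, ht, rfl⟩⟩
    obtain ⟨S, ⟨T, hT⟩, hS⟩ := PGroupCoprimeAction.exists_invariant_sylow hP hN hPN r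
    refine ⟨T, fun t ht => ?_⟩
    rw [mem_subgroupOf, mem_inf]
    refine ⟨t.2, ?_⟩
    have htS : (t : G) ∈ S := by rw [← hT]; exact ⟨t, ht, rfl⟩
    have hcard : Nat.card S = Nat.card T := by
      rw [← hT]
      exact Nat.card_congr (Equiv.Set.image _ _ N.subtype_injective).symm
    have hSr : IsPGroup r S := by
      rw [← hT]
      exact T.isPGroup'.map _
    by_cases hrp : r = p
    · subst hrp
      obtain ⟨a, ha⟩ := hSr.exists_card_eq
      have h3 : Nat.card S ∣ Nat.card N := by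
        rw [hcard]; exact card_subgroup_dvd_card _
      have ha0 : a = 0 := by
        by_contra hne
        exact hN (dvd_trans (by rw [ha]; exact dvd_pow_self r hne) h3)
      rw [ha0, pow_zero, card_eq_one] at ha
      rw [ha, mem_bot] at htS
      rw [htS]
      exact one_mem _
    · have hSX : ∀ b ∈ X, ∀ u ∈ S, b * u * b⁻¹ ∈ S := fun b hb => hS b (hXP hb)
      have hSd : Nat.card S ∣ D p := by
        refine dvd_trans ?_ hd
        rw [hcard]; exact card_subgroup_dvd_card _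
      rcases idx hp h7 (hP.to_le hXP) hSX hr.out hrp hSr hSd with h3 | h3
      · exact h3 htS
      · exact (hr2 h3.1).elim
  intro n hn
  have h3 : (⟨n, hn⟩ : N) ∈ ((N ⊓ centralizer (X : Set G)).subgroupOf N) := by
    rw [htop]; exact mem_top _
  rw [mem_subgroupOf, mem_inf] at h3
  exact h3.2

end Cfsg.Agent.H405.PSq
end

-- part: H405/PSqLocal
section
/-!
# The `p`-core modulo the `p'`-core in groups of order `p ^ 2 (p ^ 4 - 1) / 2` (helper405)
-/

set_option autoImplicit false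

namespace Cfsg.Agent.H405.PSq

open Subgroup Cfsg.Agent.Lib

variable {G : Type*} [Group G] {p : ℕ}

/-- A subgroup `P` of order `p ^ 2` does not act faithfully on the normal `p'`-subgroup `N`. -/
theorem case_i [Finite G] (hp : p.Prime) (h7 : 7 ≤ p) {P N : Subgroup G}
    (hPc : Nat.card P = p ^ 2) [hNn : N.Normal] (hN : ¬ p ∣ Nat.card N)
    (hd : Nat.card N ∣ D p) (hC : P ⊓ centralizer (N : Set G) = ⊥) : False := by
  have := Fact.mk hp
  have hP : IsPGroup p P := IsPGroup.of_card hPc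
  have hPN : ∀ b ∈ P, ∀ u ∈ N, b * u * b⁻¹ ∈ N := fun b _ u hu => hNn.conj_mem u hu b
  obtain ⟨S, ⟨T, hT⟩, hS⟩ := PGroupCoprimeAction.exists_invariant_sylow hP hN hPN 2
  have hcard : Nat.card S = Nat.card T := by
    rw [← hT]
    exact Nat.card_congr (Equiv.Set.image _ _ N.subtype_injective).symm
  have hSN : Nat.card S ∣ Nat.card N := by
    rw [hcard]; exact card_subgroup_dvd_card _
  have hS2 : IsPGroup 2 S := by
    rw [← hT]
    exact T.isPGroup'.map _
  have hne : ∀ X : Subgroup G, X ≤ P → X ≠ ⊥ →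
      Nat.card S = (p + 1) * Nat.card (S ⊓ centralizer (X : Set G) : Subgroup G) := by
    intro X hXP hX
    rcases idx hp h7 (hP.to_le hXP) (fun b hb => hS b (hXP hb)) Nat.prime_two (by omega) hS2
      (hSN.trans hd) with h1 | h1
    · exfalso
      apply hX
      have h2 := le_centralizer_of_two hp h7 hXP hP hN hd ⟨T, by rw [hT]; exact h1⟩
      have h3 : X ≤ centralizer (N : Set G) := le_centralizer_iff.mp h2
      exact le_bot_iff.mp (hC ▸ le_inf hXP h3)
    · exact h1.2.2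
  have hPne : P ≠ ⊥ := by
    rintro rfl
    rw [card_bot] at hPc
    nlinarith only [h7, hPc]
  have h1 := hne P le_rfl hPne
  have hfix : ∀ x ∈ P, x ≠ 1 →
      S ⊓ centralizer ({x} : Set G) = S ⊓ centralizer (P : Set G) := by
    intro x hx hx1
    have h2 := hne (zpowers x) (by rwa [zpowers_le]) (by rwa [Ne, zpowers_eq_bot])
    rw [zpowers_eq_closure, centralizer_closure] at h2
    symm
    apply eq_of_le_of_card_ge
    · apply inf_le_inf_left
      apply centralizer_le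
      rintro _ rfl
      exact hx
    · rw [h2] at h1
      exact (Nat.eq_of_mul_eq_mul_left (by omega) h1).le
  have h2 := card_dvd_of_fixed hS hfix
  set c := Nat.card (S ⊓ centralizer (P : Set G) : Subgroup G) with hc
  rw [hPc, h1] at h2
  have h3 : (p + 1) * c + (p ^ 2 - 1) * c = p * ((p + 1) * c) := by
    have h4 : 1 ≤ p ^ 2 := Nat.one_le_pow _ _ hp.pos
    obtain ⟨m, hm⟩ : ∃ m, p ^ 2 = m + 1 := ⟨p ^ 2 - 1, by omega⟩
    rw [hm, Nat.add_sub_cancel]
    have : p * ((p + 1) * c) = p ^ 2 * c + p * c := by ring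
    rw [this, hm]
    ring
  rw [h3, pow_two] at h2
  have h4 : p ∣ (p + 1) * c := Nat.dvd_of_mul_dvd_mul_left hp.pos h2
  rw [← h1] at h4
  exact hN (h4.trans hSN)

/-- If `K / N` is a `p`-group, `N` is a normal `p'`-group and `O_p(G) = 1` then `C_K(N)` has order
prime to `p`. -/
theorem not_dvd_inf_centralizer [Finite G] (hp : p.Prime) (hG : Cfsg.pCore p G = ⊥)
    {K N : Subgroup G} [hKn : K.Normal] [hNn : N.Normal]
    (hK : ∀ g ∈ K, ∃ k : ℕ, g ^ p ^ k ∈ N) :
    ¬ p ∣ Nat.card (K ⊓ centralizer (N : Set G) : Subgroup G) := by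
  have := Fact.mk hp
  set X := K ⊓ centralizer (N : Set G) with hX
  have hXn : X.Normal := by rw [hX]; infer_instance
  intro hdvd
  have hpX : Cfsg.pCore p X = ⊥ := by
    have h1 := Cores.map_subtype_pCore p hXn
    rw [hG, inf_bot_eq] at h1
    exact (map_eq_bot_iff_of_injective _ X.subtype_injective).mp h1
  have hq : IsPGroup p (X ⧸ center X) := by
    intro x
    obtain ⟨g, rfl⟩ := QuotientGroup.mk_surjective x
    obtain ⟨k, hk⟩ := hK g g.2.1
    refine ⟨k, ?_⟩
    rw [← QuotientGroup.mk_pow, QuotientGroup.eq_one_iff, mem_center_iff]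
    intro y
    apply Subtype.ext
    have h2 := mem_centralizer_iff.mp y.2.2 _ hk
    change (y : G) * (g : G) ^ p ^ k = (g : G) ^ p ^ k * y
    exact h2.symm
  have hnil : Group.IsNilpotent X := by
    apply Group.of_quotient_center_nilpotent
    exact hq.isNilpotent
  obtain ⟨T⟩ : Nonempty (Sylow p X) := inferInstance
  have hTn : (T : Subgroup X).Normal := by
    have h3 := (Group.isNilpotent_of_finite_tfae (G := X)).out 0 3
    exact (h3.mp hnil) p inferInstance T
  have hT : (T : Subgroup X) ≤ Cfsg.pCore p X := Cores.le_pCore hTn T.isPGroup'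
  rw [hpX, le_bot_iff] at hT
  have h4 := T.dvd_card_of_dvd_card hdvd
  rw [hT, card_bot] at h4
  exact hp.one_lt.ne' (Nat.dvd_one.mp h4)

end Cfsg.Agent.H405.PSq
end

-- part: H405/PSqMin
section
/-!
# Minimal normal subgroups of a group with trivial `p'`-core (helper405)
-/

set_option autoImplicit false

namespace Cfsg.Agent.H405.PSq

open Subgroup Cfsg.Agent.Lib

/-- A nontrivial normal subgroup of a finite group contains a minimal normal subgroup. -/
theorem exists_min {G : Type*} [Group G] [Finite G] (C : Subgroup G) (hCn : C.Normal)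
    (hC : C ≠ ⊥) :
    ∃ M : Subgroup G, M ≤ C ∧ M.Normal ∧ M ≠ ⊥ ∧
      ∀ L : Subgroup G, L.Normal → L ≤ M → L = ⊥ ∨ L = M := by
  obtain ⟨M, ⟨h1, h2, h3⟩, hmin⟩ :=
    (Set.toFinite {M : Subgroup G | M ≤ C ∧ M.Normal ∧ M ≠ ⊥}).exists_minimal ⟨C, le_rfl, hCn, hC⟩
  refine ⟨M, h1, h2, h3, fun L hL hLM => ?_⟩
  by_cases h4 : L = ⊥
  · exact Or.inl h4
  · exact Or.inr (le_antisymm hLM (hmin ⟨hLM.trans h1, hL, h4⟩ hLM))

/-- The structure of a minimal normal subgroup of a group with trivial `p'`-core. -/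
theorem minNormal_cases {Q : Type*} [Group Q] [Finite Q] {p : ℕ} (hp : p.Prime)
    (hQ : Cfsg.pPrimeCore p Q = ⊥) (M : Subgroup Q) [hMn : M.Normal] (hM : M ≠ ⊥)
    (hmin : ∀ L : Subgroup Q, L.Normal → L ≤ M → L = ⊥ ∨ L = M) :
    p ∣ Nat.card M ∧ (IsPGroup p M ∨ ∃ T : Subgroup Q, T ≤ M ∧ IsSimpleGroup T ∧
      (¬ ∀ a b : T, a * b = b * a) ∧ p ∣ Nat.card T ∧
      ∃ m : ℕ, 0 < m ∧ Nonempty (M ≃* (Fin m → T))) := by
  have := Fact.mk hp
  have hpM : p ∣ Nat.card M := by
    by_contra h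
    have h1 : M ≤ Cfsg.pPrimeCore p Q :=
      Cores.le_pPrimeCore hMn ((hp.coprime_iff_not_dvd.mpr h).symm)
    rw [hQ, le_bot_iff] at h1
    exact hM h1
  refine ⟨hpM, ?_⟩
  by_cases hab : ∀ x ∈ M, ∀ y ∈ M, Commute x y
  · left
    obtain ⟨r, hr, h1, -⟩ := MinNormalNonabelian.abelian_structure M hM hmin hab
    have := Fact.mk hr
    obtain ⟨a, ha⟩ := h1.exists_card_eq
    rw [ha] at hpM
    have h2 : p = r := (Nat.prime_dvd_prime_iff_eq hp hr).mp (hp.dvd_of_dvd_pow hpM)
    rwa [h2]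
  · right
    obtain ⟨T, m, hTM, hTs, hm, ⟨e⟩⟩ := MinNormal.exists_mulEquiv_pi M hM hmin
    have hcard : Nat.card M = Nat.card T ^ m := by
      rw [Nat.card_congr e.toEquiv, Nat.card_fun, Nat.card_eq_fintype_card (α := Fin m),
        Fintype.card_fin]
    refine ⟨T, hTM, hTs, ?_, ?_, m, hm, ⟨e⟩⟩
    · intro hc
      apply hab
      intro x hx y hy
      have h3 : (⟨x, hx⟩ : M) * ⟨y, hy⟩ = ⟨y, hy⟩ * ⟨x, hx⟩ := by
        apply e.injective
        rw [map_mul, map_mul]
        funext i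
        exact hc _ _
      exact congrArg Subtype.val h3
    · rw [hcard] at hpM
      exact hp.dvd_of_dvd_pow hpM

/-- The order of the power. -/
theorem card_pow {M T : Type*} [Group M] [Group T] {m : ℕ} (e : M ≃* (Fin m → T)) :
    Nat.card M = Nat.card T ^ m := by
  rw [Nat.card_congr e.toEquiv, Nat.card_fun, Nat.card_eq_fintype_card (α := Fin m),
        Fintype.card_fin]

universe u

variable {G : Type u} [Group G] {p : ℕ}

theorem sylow_card [Finite G] (hp : p.Prime) (h7 : 7 ≤ p) (hcard : Nat.card G = D p)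
    [Fact p.Prime] (P : Sylow p G) : Nat.card P = p ^ 2 := by
  rw [P.card_eq_multiplicity, hcard, D]
  congr 1
  rw [Nat.factorization_mul (pow_ne_zero _ hp.ne_zero), Nat.factorization_pow]
  · simp only [hp.factorization, Nat.factorization_eq_zero_of_not_dvd (not_dvd_half hp h7), _root_.Finsupp.smul_single, _root_.smul_eq_mul, _root_.mul_one, _root_.Finsupp.coe_add, _root_.Pi.add_apply, _root_.Finsupp.single_eq_same, _root_.add_zero]
  · intro h0
    exact not_dvd_half hp h7 (h0 ▸ dvd_zero p)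

/-- **`O_p(G) = 1` implies `O_p(G / O_{p'}(G)) = 1`** when `|G| = p ^ 2 (p ^ 4 - 1) / 2`. -/
theorem pCore_quotient_eq_bot [Finite G] (hp : p.Prime) (h7 : 7 ≤ p) (hcard : Nat.card G = D p)
    (hG : Cfsg.pCore p G = ⊥)
    (hs : ∀ (H : Type u) [Group H] [Finite H], IsSimpleGroup H → (¬ ∀ a b : H, a * b = b * a) →
      Nat.card H ∣ D p → p ∣ Nat.card H → 4 ∣ Nat.card H) :
    Cfsg.pCore p (G ⧸ Cfsg.pPrimeCore p G) = ⊥ := by
  have := Fact.mk hp
  by_contra hne
  set N := Cfsg.pPrimeCore p G with hNdef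
  have hNcop : ¬ p ∣ Nat.card N :=
    (hp.coprime_iff_not_dvd).mp (Cores.pPrimeCore_coprime p).symm
  have hQ : Cfsg.pPrimeCore p (G ⧸ N) = ⊥ := Cores.pPrimeCore_quotient_pPrimeCore p
  have hNd : Nat.card N ∣ D p := hcard ▸ card_subgroup_dvd_card N
  -- a `p`-group in the quotient gives the power condition
  have hpow : ∀ Kb : Subgroup (G ⧸ N), IsPGroup p Kb →
      ∀ g ∈ Kb.comap (QuotientGroup.mk' N), ∃ k : ℕ, g ^ p ^ k ∈ N := by
    intro Kb hKb g hg
    obtain ⟨k, hk⟩ := hKb ⟨_, hg⟩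
    refine ⟨k, ?_⟩
    have h1 := congrArg Subtype.val hk
    change (QuotientGroup.mk' N g) ^ p ^ k = 1 at h1
    rw [← map_pow] at h1
    exact (QuotientGroup.eq_one_iff _).mp h1
  have hdvdQ : ∀ Kb : Subgroup (G ⧸ N), Nat.card Kb ∣ Nat.card (Kb.comap (QuotientGroup.mk' N)) := by
    intro Kb
    have h1 := card_dvd_of_surjective
      ((QuotientGroup.mk' N).subgroupComap Kb)
      ((QuotientGroup.mk' N).subgroupComap_surjective_of_surjective Kb
        (QuotientGroup.mk'_surjective N))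
    exact h1
  -- step b
  have hfour : ¬ 4 ∣ Nat.card (G ⧸ N) := by
    set K := (Cfsg.pCore p (G ⧸ N)).comap (QuotientGroup.mk' N) with hK
    have hKn : K.Normal := by rw [hK]; infer_instance
    have hKp := hpow _ (Cores.pCore_isPGroup (G := G ⧸ N) p)
    have hnd := not_dvd_inf_centralizer hp hG (K := K) (N := N) hKp
    have hpK : p ∣ Nat.card K := by
      refine dvd_trans ?_ (hdvdQ _)
      obtain ⟨a, ha⟩ := (Cores.pCore_isPGroup (G := G ⧸ N) p).exists_card_eq
      rw [ha]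
      apply dvd_pow_self
      rintro rfl
      rw [pow_zero, card_eq_one] at ha
      exact hne ha
    obtain ⟨x, hx⟩ := exists_prime_orderOf_dvd_card' p hpK
    have hxo : orderOf (x : G) = p := by rw [orderOf_coe, hx]
    have hXp : IsPGroup p (zpowers (x : G)) :=
      IsPGroup.of_card (n := 1) (by rw [Nat.card_zpowers, hxo, pow_one])
    have hXN : ∀ b ∈ zpowers (x : G), ∀ u ∈ N, b * u * b⁻¹ ∈ N := fun b _ u hu =>
      (inferInstance : N.Normal).conj_mem u hu b
    have hnot : ¬ N ≤ centralizer ((zpowers (x : G) : Subgroup G) : Set G) := by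
      intro h1
      have h2 : zpowers (x : G) ≤ K ⊓ centralizer (N : Set G) :=
        le_inf (by rw [zpowers_le]; exact x.2) (le_centralizer_iff.mp h1)
      apply hnd
      have h3 := card_dvd_of_le h2
      rwa [Nat.card_zpowers, hxo] at h3
    obtain ⟨S, ⟨T, hT⟩, hS⟩ := PGroupCoprimeAction.exists_invariant_sylow hXp hNcop hXN 2
    have hcardS : Nat.card S = Nat.card T := by
      rw [← hT]
      exact Nat.card_congr (Equiv.Set.image _ _ N.subtype_injective).symm
    have hSN : Nat.card S ∣ Nat.card N := by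
      rw [hcardS]; exact card_subgroup_dvd_card _
    have hS2 : IsPGroup 2 S := by
      rw [← hT]
      exact T.isPGroup'.map _
    rcases idx hp h7 hXp hS Nat.prime_two (by omega) hS2 (hSN.trans hNd) with h1 | ⟨-, ⟨b, hb⟩, h1⟩
    · exact (hnot (le_centralizer_of_two hp h7 le_rfl hXp hNcop hNd ⟨T, by rw [hT]; exact h1⟩)).elim
    · intro h4
      apply not_four_mul hp h7 hb
      rw [← hcard, card_eq_card_quotient_mul_card_subgroup N]
      exact mul_dvd_mul h4 ((Dvd.intro _ h1.symm).trans hSN)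
  obtain ⟨P⟩ : Nonempty (Sylow p G) := inferInstance
  have hPc := sylow_card hp h7 hcard P
  by_cases hC : (P : Subgroup G) ⊓ centralizer (N : Set G) = ⊥
  · exact case_i hp h7 hPc hNcop hNd hC
  -- step d
  set C := centralizer (N : Set G) with hCdef
  have hCn : C.Normal := by rw [hCdef]; infer_instance
  set Cb := C.map (QuotientGroup.mk' N) with hCb
  have hCbn : Cb.Normal := Cores.map_normal_of_surjective (QuotientGroup.mk'_surjective N) hCn
  have hCb1 : Cb ≠ ⊥ := by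
    intro h1
    rw [hCb, Subgroup.map_eq_bot_iff, QuotientGroup.ker_mk'] at h1
    apply hC
    have h2 : (P : Subgroup G) ⊓ C ≤ (P : Subgroup G) ⊓ N := inf_le_inf_left _ h1
    rw [eq_bot_iff]
    refine h2.trans ?_
    have h3 : Nat.Coprime (Nat.card (P : Subgroup G)) (Nat.card N) := by
      have : Nat.card (P : Subgroup G) = p ^ 2 := hPc
      rw [this]
      exact Nat.Coprime.pow_left _ (hp.coprime_iff_not_dvd.mpr hNcop)
    exact (disjoint_of_coprime_natCard h3).le_bot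
  obtain ⟨M, hMC, hMn, hM1, hmin⟩ := exists_min Cb hCbn hCb1
  obtain ⟨hpM, hM | ⟨T, hTM, hTs, hTna, hpT, m, hm, ⟨e⟩⟩⟩ := minNormal_cases hp hQ M hM1 hmin
  · set K := M.comap (QuotientGroup.mk' N) with hK
    have hKn : K.Normal := by rw [hK]; infer_instance
    apply not_dvd_inf_centralizer hp hG (K := K) (N := N) (hpow M hM)
    refine hpM.trans ?_
    have h1 : M = (K ⊓ C).map (QuotientGroup.mk' N) := by
      apply le_antisymm
      · intro x hx
        obtain ⟨c, hc, rfl⟩ := hMC hx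
        exact ⟨c, ⟨hx, hc⟩, rfl⟩
      · rintro _ ⟨c, hc, rfl⟩
        exact hc.1
    have h2 : Nat.card M ∣ Nat.card (K ⊓ C : Subgroup G) := by
      conv_lhs => rw [h1]
      exact card_map_dvd _ _
    exact h2
  · apply hfour
    have hTd : Nat.card T ∣ Nat.card (G ⧸ N) := card_subgroup_dvd_card T
    have hQd : Nat.card (G ⧸ N) ∣ D p := by
      rw [← hcard]; exact card_quotient_dvd_card N
    exact (hs T hTs hTna (hTd.trans hQd) hpT).trans hTd

end Cfsg.Agent.H405.PSq
end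

private theorem dce_d590691aa2d4 : _root_.True := by
  try have : _root_.True := by simp only [_root_.Cfsg.Agent.H405.PSq.D.eq_1]
  exact _root_.True.intro
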